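import Groth.Prelude.Def_Mor2
import Groth.Agent.SplitLib.Restrict
import Groth.Agent.GrpdLib.Quot.Props
import Groth.Agent.QuotRepLib.Saturate
import Mathlib.AlgebraicGeometry.Sites.Fpqc

/-!
# Quotients of groupoid schemes with a quasi-section
-/

set_option autoImplicit false
set_option backward.isDefEq.respectTransparency false
set_option linter.style.haveILetI false

universe u

open CategoryTheory CategoryTheory.Limits AlgebraicGeometry

noncomputable section

namespace QuasiSecQuotLib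

open Groth.Agent.Split

variable {S : Scheme.{u}} (G : Grpd.GroupoidScheme S) {N : Scheme.{u}} (g : N ⟶ G.U)

/-- The arrows with target in the quasi-section. -/
abbrev V : Scheme.{u} := pullback G.t g

/-- The source of an arrow with target in the quasi-section. -/
def sV : V G g ⟶ G.U := pullback.fst G.t g ≫ G.s

/-- The target of an arrow with target in the quasi-section. -/
def tV : V G g ⟶ N := pullback.snd G.t g

theorem isPullback_rs :
    IsPullback (pullback.lift (rf G g) (rt G g) (rf_t G g) : RR G g ⟶ V G g) (rs G g) (sV G g) g := by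
  have w : (pullback.lift (rf G g) (rt G g) (rf_t G g) : RR G g ⟶ V G g) ≫ sV G g = rs G g ≫ g := by
    rw [sV, pullback.lift_fst_assoc, rf_s]
  refine IsPullback.of_isLimit' ⟨w⟩ (PullbackCone.IsLimit.mk w
    (fun c => mkR (c.fst ≫ pullback.fst G.t g) c.snd (c.fst ≫ pullback.snd G.t g)
      (by rw [Category.assoc]; exact c.condition) (by rw [Category.assoc, Category.assoc, pullback.condition]))
    (fun c => ?_) (fun c => mkR_rs ..) fun c m h₁ h₂ => ?_)
  · apply pullback.hom_ext
    · rw [Category.assoc, pullback.lift_fst, mkR_rf]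
    · rw [Category.assoc, pullback.lift_snd, mkR_rt]
  · refine RR_hom_ext ?_ ?_ ?_
    · rw [mkR_rf, ← h₁, Category.assoc, pullback.lift_fst]
    · rw [mkR_rs, h₂]
    · rw [mkR_rt, ← h₁, Category.assoc, pullback.lift_snd]

variable {G g}

theorem restr_isFinLocFree (h : Mor2.IsFinLocFree (sV G g)) : Mor2.IsFinLocFree (restr G g).s :=
  ⟨MorphismProperty.of_isPullback (P := @IsFinite) (isPullback_rs G g) h.1,
    MorphismProperty.of_isPullback (P := @Flat) (isPullback_rs G g) h.2.1,
    MorphismProperty.of_isPullback (P := @LocallyOfFinitePresentation) (isPullback_rs G g) h.2.2⟩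

/-- Classes of equivalent points of the quasi-section lie in affine opens. -/
theorem restr_affine
    (h2 : ∀ E : Set N, (∀ x ∈ E, ∀ y ∈ E, ∃ r : G.R, G.t r = g x ∧ G.s r = g y) →
      ∃ W : N.Opens, IsAffineOpen W ∧ E ⊆ (W : Set N)) (x : (restr G g).U) :
    ∃ W : (restr G g).U.Opens, IsAffineOpen W ∧ ∀ y, GrpdLib.Rel (restr G g) x y → y ∈ W := by
  obtain ⟨W, hW, hEW⟩ := h2 {y | GrpdLib.Rel (restr G g) x y} (fun a ha b hb => by
    obtain ⟨r, hr, hr'⟩ := GrpdLib.Rel.trans (restr G g) (GrpdLib.Rel.symm (restr G g) hb) ha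
    refine ⟨rf G g r, ?_, ?_⟩
    · rw [← Scheme.Hom.comp_apply, rf_t, Scheme.Hom.comp_apply]; exact congrArg g hr'
    · rw [← Scheme.Hom.comp_apply, rf_s, Scheme.Hom.comp_apply]; exact congrArg g hr)
  exact ⟨W, hW, fun y hy => hEW hy⟩

section desc

variable [Flat (sV G g)] [Surjective (sV G g)] [QuasiCompact (sV G g)]
variable {Y : Scheme.{u}} (p' : N ⟶ Y) (w' : rt G g ≫ p' = rs G g ≫ p')

include w' in
theorem compat {T : Scheme.{u}} (g₁ g₂ : T ⟶ V G g) (h : g₁ ≫ sV G g = g₂ ≫ sV G g) :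
    g₁ ≫ tV G g ≫ p' = g₂ ≫ tV G g ≫ p' := by
  let α := g₁ ≫ pullback.fst G.t g
  let β := g₂ ≫ pullback.fst G.t g
  have hαβ : α ≫ G.s = (β ≫ G.i) ≫ G.t := by
    rw [Category.assoc, Category.assoc, Category.assoc, G.i_t]; exact h
  let ρ := pullback.lift α (β ≫ G.i) hαβ ≫ G.c
  let r : T ⟶ RR G g := mkR ρ (g₂ ≫ tV G g) (g₁ ≫ tV G g)
    (by rw [G.comp_s, Category.assoc, Category.assoc, G.i_s, pullback.condition, tV, Category.assoc])
    (by rw [G.comp_t, Category.assoc, pullback.condition, tV, Category.assoc])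
  calc g₁ ≫ tV G g ≫ p' = (r ≫ rt G g) ≫ p' := by rw [mkR_rt, Category.assoc]
    _ = (r ≫ rs G g) ≫ p' := by rw [Category.assoc, w', Category.assoc]
    _ = g₂ ≫ tV G g ≫ p' := by rw [mkR_rs, Category.assoc]

/-- The quotient morphism. -/
def qp : G.U ⟶ Y := EffectiveEpi.desc (sV G g) (tV G g ≫ p') fun g₁ g₂ h => compat p' w' g₁ g₂ h

@[reassoc]
theorem sV_qp : sV G g ≫ qp p' w' = tV G g ≫ p' := EffectiveEpi.fac _ _ _

/-- The quotient morphism on a point moved into the quasi-section by an arrow. -/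
theorem qp_of_arrow {T : Scheme.{u}} (x : T ⟶ G.U) (α : T ⟶ G.R) (a : T ⟶ N) (hs : α ≫ G.s = x)
    (ht : α ≫ G.t = a ≫ g) : x ≫ qp p' w' = a ≫ p' := by
  have h := congrArg (pullback.lift α a ht ≫ ·) (sV_qp p' w')
  simp only [sV, tV, pullback.lift_fst_assoc, pullback.lift_snd_assoc, Category.assoc] at h
  rw [← hs, Category.assoc]
  exact h

theorem g_qp : g ≫ qp p' w' = p' := by
  have h := qp_of_arrow p' w' g (g ≫ G.e) (𝟙 N) (by rw [Category.assoc, G.e_s, Category.comp_id])
    (by rw [Category.assoc, G.e_t, Category.comp_id, Category.id_comp])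
  rwa [Category.id_comp] at h

theorem qp_w : G.t ≫ qp p' w' = G.s ≫ qp p' w' := by
  haveI : Flat (pullback.fst G.s (sV G g)) := MorphismProperty.pullback_fst (P := @Flat) _ _ ‹_›
  haveI : Surjective (pullback.fst G.s (sV G g)) := MorphismProperty.pullback_fst (P := @Surjective) _ _ ‹_›
  haveI := Flat.epi_of_flat_of_surjective (pullback.fst G.s (sV G g))
  rw [← cancel_epi (pullback.fst G.s (sV G g))]
  let ρ := pullback.fst G.s (sV G g)
  let β := pullback.snd G.s (sV G g) ≫ pullback.fst G.t g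
  let a := pullback.snd G.s (sV G g) ≫ tV G g
  have hβs : β ≫ G.s = ρ ≫ G.s := by
    rw [Category.assoc]; exact pullback.condition.symm
  have hβt : β ≫ G.t = a ≫ g := by simp only [β, a, tV, Category.assoc, pullback.condition]
  have hc : β ≫ G.s = (ρ ≫ G.i) ≫ G.t := by rw [hβs, Category.assoc, G.i_t]
  rw [← Category.assoc, ← Category.assoc,
    qp_of_arrow p' w' (ρ ≫ G.t) (pullback.lift β (ρ ≫ G.i) hc ≫ G.c) a
      (by rw [G.comp_s, Category.assoc, G.i_s]) (by rw [G.comp_t, hβt]),
    qp_of_arrow p' w' (ρ ≫ G.s) β a hβs hβt]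

/-- The quotient is a coequalizer. -/
def qp_isColimit (hc : IsColimit (Cofork.ofπ p' w')) : IsColimit (Cofork.ofπ (qp p' w') (qp_w p' w')) := by
  have hw : ∀ c : Cofork G.t G.s, rt G g ≫ g ≫ c.π = rs G g ≫ g ≫ c.π := fun c => by
    rw [← rf_t_assoc, ← rf_s_assoc, c.condition]
  refine Cofork.IsColimit.mk _ (fun c => hc.desc (Cofork.ofπ (g ≫ c.π) (hw c))) (fun c => ?_) (fun c m hm => ?_)
  · haveI := Flat.epi_of_flat_of_surjective (sV G g)
    show qp p' w' ≫ _ = c.π
    rw [← cancel_epi (sV G g), sV_qp_assoc]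
    have h := Cofork.IsColimit.π_desc hc (t := Cofork.ofπ (g ≫ c.π) (hw c))
    simp only [Cofork.π_ofπ] at h
    rw [h, tV, ← pullback.condition_assoc, sV, Category.assoc, c.condition]
  · refine Cofork.IsColimit.hom_ext hc ?_
    rw [Cofork.IsColimit.π_desc hc, Cofork.π_ofπ]
    show p' ≫ m = g ≫ c.π
    rw [← g_qp p' w', Category.assoc, ← hm]
    rfl

theorem qp_surjective [Surjective p'] : Surjective (qp p' w') :=
  ⟨fun y => by
    obtain ⟨x, rfl⟩ := p'.surjective y
    exact ⟨g x, by rw [← Scheme.Hom.comp_apply, g_qp]⟩⟩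

theorem qp_isOpenMap [IsImmersion g] (hp' : IsOpenMap p') (ht : IsOpenMap G.t) : IsOpenMap (qp p' w') := by
  intro W hW
  have himg : (qp p' w') '' W = p' '' (tV G g '' (sV G g ⁻¹' W)) := by
    conv_lhs => rw [← Set.image_preimage_eq W (sV G g).surjective]
    rw [← Set.image_comp, ← Set.image_comp]
    exact congrArg (· '' _) (congrArg (fun f : V G g ⟶ Y => (⇑f)) (sV_qp p' w'))
  rw [himg]
  refine hp' _ ?_
  obtain ⟨O, hO, hOW⟩ := (pullback.fst G.t g).isEmbedding.toIsInducing.isOpen_iff.mp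
    (hW.preimage (sV G g).continuous)
  have e : tV G g '' (sV G g ⁻¹' W) = g ⁻¹' (G.t '' O) := by
    rw [← hOW]
    refine Set.Subset.antisymm ?_ fun y hy => ?_
    · rintro _ ⟨v, hv, rfl⟩
      exact ⟨pullback.fst G.t g v, hv, by rw [← Scheme.Hom.comp_apply, pullback.condition]; rfl⟩
    · obtain ⟨r, hr, hry⟩ := hy
      obtain ⟨v, hv₁, hv₂⟩ := Scheme.Pullback.exists_preimage_pullback (f := G.t) (g := g) r y hry
      exact ⟨v, show pullback.fst G.t g v ∈ O from hv₁ ▸ hr, hv₂⟩
  rw [e]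
  exact (ht O hO).preimage g.continuous

theorem qp_universallyClosed [UniversallyClosed p'] [UniversallyClosed G.t] : UniversallyClosed (qp p' w') := by
  haveI : UniversallyClosed (tV G g) := MorphismProperty.pullback_snd (P := @UniversallyClosed) _ _ ‹_›
  haveI : UniversallyClosed (sV G g ≫ qp p' w') := by rw [sV_qp]; infer_instance
  exact UniversallyClosed.of_comp_surjective (sV G g) _

theorem qp_flat [Flat p'] [Flat G.t] : Flat (qp p' w') := by
  haveI : Flat (tV G g) := MorphismProperty.pullback_snd (P := @Flat) _ _ ‹_›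
  haveI : Flat (sV G g ≫ qp p' w') := by rw [sV_qp]; infer_instance
  exact Groth.Agent.QuotRep.flat_of_comp_surjective (sV G g) _

/-- The cover of the self product of the quotient morphism. -/
abbrev Q : Scheme.{u} := pullback (tV G g ≫ p') (tV G g ≫ p')

/-- The map from the cover to the self product. -/
def qQ : Q (G := G) (g := g) p' ⟶ pullback (qp p' w') (qp p' w') :=
  pullback.map _ _ _ _ (sV G g) (sV G g) (𝟙 Y) (by rw [Category.comp_id, sV_qp]) (by rw [Category.comp_id, sV_qp])

/-- The targets of a point of the cover. -/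
def qN : Q (G := G) (g := g) p' ⟶ pullback p' p' :=
  pullback.map _ _ _ _ (tV G g) (tV G g) (𝟙 Y) (Category.comp_id _) (Category.comp_id _)

include w' in
/-- Arrows over the cover, given arrows of the quasi-section over its targets. -/
theorem exists_arrow {T : Scheme.{u}} (z : T ⟶ Q (G := G) (g := g) p') (r : T ⟶ RR G g)
    (hr : r ≫ pullback.lift (rt G g) (rs G g) w' = z ≫ qN (G := G) (g := g) p') :
    ∃ ρ : T ⟶ G.R, ρ ≫ pullback.lift G.t G.s (qp_w p' w') = z ≫ qQ p' w' := by
  have h1 := congrArg (· ≫ pullback.fst p' p') hr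
  have h2 := congrArg (· ≫ pullback.snd p' p') hr
  simp only [qN, Category.assoc, pullback.lift_fst, pullback.lift_snd] at h1 h2
  let β₁ := z ≫ pullback.fst (tV G g ≫ p') (tV G g ≫ p') ≫ pullback.fst G.t g
  let β₂ := z ≫ pullback.snd (tV G g ≫ p') (tV G g ≫ p') ≫ pullback.fst G.t g
  have e₂ : (r ≫ rf G g) ≫ G.s = β₂ ≫ G.t := by
    simp only [β₂, Category.assoc, pullback.condition, rf_s]
    rw [reassoc_of% h2]; rfl
  let γ := pullback.lift (r ≫ rf G g) β₂ e₂ ≫ G.c
  have e₁ : (β₁ ≫ G.i) ≫ G.s = γ ≫ G.t := by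
    rw [G.comp_t, Category.assoc, G.i_s]
    simp only [β₁, Category.assoc, pullback.condition, rf_t]
    rw [reassoc_of% h1]; rfl
  refine ⟨pullback.lift (β₁ ≫ G.i) γ e₁ ≫ G.c, pullback.hom_ext ?_ ?_⟩
  · rw [Category.assoc, pullback.lift_fst, G.comp_t, Category.assoc, G.i_t]
    simp only [β₁, qQ, sV, Category.assoc, pullback.lift_fst]
  · rw [Category.assoc, pullback.lift_snd, G.comp_s, G.comp_s]
    simp only [β₂, qQ, sV, Category.assoc, pullback.lift_snd]

theorem lift_surjective (hsurj : Function.Surjective (pullback.lift (rt G g) (rs G g) w')) :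
    Function.Surjective (pullback.lift G.t G.s (qp_w p' w')) := by
  haveI : Surjective (pullback.lift (rt G g) (rs G g) w') := ⟨hsurj⟩
  let P := pullback (pullback.lift (rt G g) (rs G g) w') (qN (G := G) (g := g) p')
  obtain ⟨ρ, hρ⟩ := exists_arrow p' w' (pullback.snd _ _ : P ⟶ _) (pullback.fst _ _) pullback.condition
  haveI : Surjective (pullback.snd (pullback.lift (rt G g) (rs G g) w') (qN (G := G) (g := g) p')) :=
    MorphismProperty.pullback_snd (P := @Surjective) _ _ ‹_›
  haveI : Surjective (qQ p' w') :=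
    MorphismProperty.pullbackMap (P := @Surjective) ‹_› ‹_› (by rw [sV_qp]) (by rw [sV_qp])
  intro y
  obtain ⟨z, hz⟩ := (pullback.snd (pullback.lift (rt G g) (rs G g) w') (qN (G := G) (g := g) p') ≫ qQ p' w').surjective y
  exact ⟨ρ z, by rw [← Scheme.Hom.comp_apply, hρ, hz]⟩

theorem isPullback_qp [Mono G.j] (hpb : IsPullback (rt G g) (rs G g) p' p') :
    IsPullback G.t G.s (qp p' w') (qp p' w') := by
  let l := pullback.lift G.t G.s (qp_w p' w')
  have hl : ∀ {T : Scheme.{u}} (a b : T ⟶ G.R), a ≫ l = b ≫ l → a = b := fun a b h => by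
    rw [← cancel_mono G.j]
    apply pullback.hom_ext
    · simpa [Grpd.GroupoidScheme.j, l] using congrArg (· ≫ pullback.fst _ _) h
    · simpa [Grpd.GroupoidScheme.j, l] using congrArg (· ≫ pullback.snd _ _) h
  haveI : Mono l := ⟨hl⟩
  haveI : Surjective (qQ p' w') :=
    MorphismProperty.pullbackMap (P := @Surjective) ‹_› ‹_› (by rw [sV_qp]) (by rw [sV_qp])
  haveI : Flat (qQ p' w') :=
    MorphismProperty.pullbackMap (P := @Flat) ‹_› ‹_› (by rw [sV_qp]) (by rw [sV_qp])
  haveI : QuasiCompact (qQ p' w') :=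
    MorphismProperty.pullbackMap (P := @QuasiCompact) ‹_› ‹_› (by rw [sV_qp]) (by rw [sV_qp])
  haveI : IsIso (pullback.lift (rt G g) (rs G g) w') := by
    have e : pullback.lift (rt G g) (rs G g) w' = hpb.isoPullback.hom := by
      apply pullback.hom_ext <;> simp
    rw [e]; infer_instance
  obtain ⟨ρ, hρ⟩ := exists_arrow p' w' (𝟙 (Q (G := G) (g := g) p')) (qN (G := G) (g := g) p' ≫ inv _)
    (by rw [Category.assoc, IsIso.inv_hom_id, Category.comp_id, Category.id_comp])
  rw [Category.id_comp] at hρ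
  let ρ' : pullback (qp p' w') (qp p' w') ⟶ G.R := EffectiveEpi.desc (qQ p' w') ρ fun a b h =>
    hl _ _ (by rw [Category.assoc, Category.assoc, hρ, h])
  have h1 : ρ' ≫ l = 𝟙 _ := by
    haveI := Flat.epi_of_flat_of_surjective (qQ p' w')
    rw [← cancel_epi (qQ p' w'), EffectiveEpi.fac_assoc, Category.comp_id]
    exact hρ
  haveI : IsIso l := ⟨ρ', hl _ _ (by rw [Category.assoc, h1, Category.comp_id, Category.id_comp]), h1⟩
  exact IsPullback.of_iso_pullback ⟨qp_w p' w'⟩ (asIso l) (pullback.lift_fst _ _ _) (pullback.lift_snd _ _ _)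

end desc

end QuasiSecQuotLib
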